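import Cfsg.Agent.Lib.Helper67.LSF.Defs

/-!
# LSF package [FWD]: conjugation by the stable letter `t_i` is `φ_i` on `lam (P_i)`
-/

set_option autoImplicit false

namespace Cfsg.Agent.Lib.Helper40.LSF

open Cfsg Cfsg.Agent.Lib.Helper67.LSF

universe u

theorem pkgFwd : PkgFwd.{u} := by
  intro Ω _ S F i u
  have hfix : xperm F (lam S ⟨u, (F.le_of_mem i.mem).1 u.2⟩) (x0 i) = x0 i := by
    unfold x0
    rw [xperm_mk]
    congr 1
    rw [QuotientGroup.eq]
    have hmem : lam S ⟨u, (F.le_of_mem i.mem).1 u.2⟩ ∈ Lam i := by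
      refine ⟨⟨u, (F.le_of_mem i.mem).1 u.2⟩, ?_, rfl⟩
      show (⟨u, (F.le_of_mem i.mem).1 u.2⟩ : S).1 ∈ i.P
      exact u.2
    have h2 := (Lam i).inv_mem hmem
    simpa using h2
  have hconj : i.σ * lam S ⟨u, (F.le_of_mem i.mem).1 u.2⟩ * i.σ⁻¹ =
      lam S ⟨i.φ u, (F.le_of_mem i.mem).2 u⟩ := by
    refine Equiv.ext fun x => ?_
    have h := i.hσ u (i.σ⁻¹ x)
    simp only [Equiv.Perm.mul_apply, lam_apply]
    rw [h]
    simp
  have h1 : (SemidirectProduct.inl (FreeGroup.of (x0 i)) : Ghat F) *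
      SemidirectProduct.inr (lam S ⟨u, (F.le_of_mem i.mem).1 u.2⟩) =
      SemidirectProduct.inr (lam S ⟨u, (F.le_of_mem i.mem).1 u.2⟩) *
        SemidirectProduct.inl (FreeGroup.of (x0 i)) := by
    apply SemidirectProduct.ext
    · simp only [SemidirectProduct.mul_left, SemidirectProduct.left_inl,
        SemidirectProduct.right_inl, SemidirectProduct.left_inr, SemidirectProduct.right_inr,
        map_one, mul_one, one_mul]
      show FreeGroup.of (x0 i) = autX (xperm F) _ (FreeGroup.of (x0 i))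
      rw [autX_of, hfix]
    · simp
  have h2 : tGen i * aGen F ⟨u, (F.le_of_mem i.mem).1 u.2⟩ * (tGen i)⁻¹ =
      (SemidirectProduct.inr (i.σ * lam S ⟨u, (F.le_of_mem i.mem).1 u.2⟩ * i.σ⁻¹) : Ghat F) := by
    unfold tGen aGen
    rw [mul_assoc (SemidirectProduct.inr i.σ : Ghat F), h1, mul_inv_rev, map_mul, map_mul,
      map_inv]
    group
  rw [h2, hconj]
  rfl

end Cfsg.Agent.Lib.Helper40.LSF
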